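import Mathlib

namespace Groth.Agent.H5.Dom1

open IsLocalRing

universe u

/-- Transport: a local ring `L` with nice properties and an injective algebra map to `K` gives the
required subalgebra. -/
theorem exists_subalgebra_of_injective {R K L : Type u} [CommRing R] [Field K] [Algebra R K]
    [IsLocalRing R] [CommRing L] [Algebra R L] [IsLocalRing L] [IsNoetherianRing L]
    (hdim : ringKrullDim L = 1) [IsLocalHom (algebraMap R L)] [Algebra.EssFiniteType R L]
    (ι : L →ₐ[R] K) (hι : Function.Injective ι) :
    ∃ R' : Subalgebra R K, ∃ _ : IsLocalRing R',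
      IsNoetherianRing R' ∧ ringKrullDim R' = 1 ∧ IsLocalHom (algebraMap R R') ∧
        Algebra.EssFiniteType R R' := by
  let e : L ≃ₐ[R] ι.range := AlgEquiv.ofInjective ι hι
  haveI : IsLocalRing ι.range := e.toRingEquiv.isLocalRing
  refine ⟨ι.range, inferInstance, ?_, ?_, ?_, ?_⟩
  · exact isNoetherianRing_of_ringEquiv L e.toRingEquiv
  · rw [← hdim]
    exact (ringKrullDim_eq_of_ringEquiv e.toRingEquiv).symm
  · have h : algebraMap R ι.range = (e : L →+* ι.range).comp (algebraMap R L) := by
      ext x
      simp
    rw [h]
    haveI : IsLocalHom (e : L →+* ι.range) := by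
      constructor
      intro a ha
      have := ha.map e.symm
      simpa using this
    exact RingHom.isLocalHom_comp _ _
  · exact (Algebra.EssFiniteType.iff_of_algEquiv e).mp inferInstance

end Groth.Agent.H5.Dom1
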