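import Mathlib
import Groth.Agent.Lib.Helper5.Dom1.A

namespace Groth.Agent.H5.Dom1

open IsLocalRing

universe u

theorem main (R : Type u) [CommRing R] [IsDomain R]
    [IsNoetherianRing R] [IsLocalRing R] (hR : ¬ IsField R) :
    ∃ R' : Subalgebra R (FractionRing R), ∃ _ : IsLocalRing R',
      IsNoetherianRing R' ∧ ringKrullDim R' = 1 ∧ IsLocalHom (algebraMap R R') ∧
        Algebra.EssFiniteType R R' := by
  classical
  let K := FractionRing R
  let f : R →+* K := algebraMap R K
  have hf : Function.Injective f := IsFractionRing.injective R K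
  obtain ⟨V, hV, hloc⟩ := IsLocalRing.exists_factor_valuationRing f
  -- generators of the maximal ideal
  obtain ⟨s, hs⟩ := (isNoetherianRing_iff_ideal_fg R).mp inferInstance (maximalIdeal R)
  have hm0 : maximalIdeal R ≠ ⊥ := fun h => hR (IsLocalRing.isField_iff_maximalIdeal_eq.mpr h)
  have hsm : ∀ x ∈ s, x ∈ maximalIdeal R := fun x hx => hs ▸ Ideal.subset_span hx
  have hex1 : ∃ x₁ ∈ s, x₁ ≠ 0 := by
    by_contra hcon
    push Not at hcon
    apply hm0
    rw [← hs, Ideal.span_eq_bot]
    exact fun x hx => hcon x hx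
  obtain ⟨x₁, hx₁s, hx₁⟩ := hex1
  obtain ⟨x₀, hx₀s, hmax⟩ := Finset.exists_max_image s (fun x => V.valuation (f x)) ⟨x₁, hx₁s⟩
  have hfx₁ : f x₁ ≠ 0 := fun h => hx₁ (hf (h.trans (map_zero f).symm))
  have hvx₀ : V.valuation (f x₀) ≠ 0 := by
    intro h
    have h1 := hmax x₁ hx₁s
    simp only [h] at h1
    exact hfx₁ ((map_eq_zero _).mp (le_antisymm h1 zero_le))
  have hfx₀ : f x₀ ≠ 0 := fun h => hvx₀ (by rw [h, map_zero])
  -- the quotients lie in V
  have hquot : ∀ x ∈ s, f x / f x₀ ∈ V := by
    intro x hx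
    rw [← ValuationSubring.valuation_le_one_iff, map_div₀]
    exact div_le_one_of_le₀ (hmax x hx) zero_le
  -- the chart
  let S₀ : Subalgebra R K := Algebra.adjoin R ((s.image (fun x => f x / f x₀) : Finset K) : Set K)
  haveI : Algebra.FiniteType R S₀ :=
    (Subalgebra.fg_iff_finiteType _).mp (Subalgebra.fg_adjoin_finset _)
  haveI : IsNoetherianRing S₀ := Algebra.FiniteType.isNoetherianRing R S₀
  have hS₀V : ∀ y ∈ S₀, y ∈ V := by
    intro y hy
    induction hy using Algebra.adjoin_induction with
    | mem y hy =>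
      simp only [Finset.coe_image, Set.mem_image, Finset.mem_coe] at hy
      obtain ⟨x, hx, rfl⟩ := hy
      exact hquot x hx
    | algebraMap r => exact hV r
    | add a b _ _ ha hb => exact V.add_mem _ _ ha hb
    | mul a b _ _ ha hb => exact V.mul_mem _ _ ha hb
  let t : S₀ := algebraMap R S₀ x₀
  have ht_val : (t : K) = f x₀ := rfl
  have ht0 : t ≠ 0 := fun h => hfx₀ (by rw [← ht_val, h]; rfl)
  have ht_nu : ¬ IsUnit t := by
    intro hu
    obtain ⟨u, hu⟩ := hu.exists_right_inv
    have h1 : (t : K) * (u : K) = 1 := by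
      have := congrArg (Subtype.val) hu
      simpa using this
    have huV : (u : K) ∈ V := hS₀V _ u.2
    have hunit : IsUnit (f.codRestrict V.toSubring hV x₀) := by
      refine IsUnit.of_mul_eq_one (⟨(u : K), huV⟩ : V.toSubring) ?_
      apply Subtype.ext
      exact h1
    have := hloc.map_nonunit x₀ hunit
    exact (IsLocalRing.mem_maximalIdeal x₀).mp (hsm x₀ hx₀s) this
  have hspan : Ideal.span {t} ≠ ⊤ := fun h => ht_nu (Ideal.span_singleton_eq_top.mp h)
  obtain ⟨M, hM, hle⟩ := Ideal.exists_le_maximal _ hspan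
  haveI := hM.isPrime
  obtain ⟨p, hp, -⟩ := Ideal.exists_minimalPrimes_le hle
  haveI hpp : p.IsPrime := hp.1.1
  have htp : t ∈ p := hp.1.2 (Ideal.mem_span_singleton_self t)
  have hp0 : p ≠ ⊥ := fun h => ht0 (by rw [h] at htp; exact (Ideal.mem_bot.mp htp))
  have hheight : p.height = 1 := by
    apply le_antisymm
    · exact Ideal.height_le_one_of_isPrincipal_of_mem_minimalPrimes (Ideal.span {t}) p hp
    · rw [Order.one_le_iff_ne_zero]
      exact fun h => hp0 (Ideal.height_eq_zero_iff_eq_bot.mp h)
  -- comap of p is the maximal ideal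
  have hcomap : p.comap (algebraMap R S₀) = maximalIdeal R := by
    symm
    apply (maximalIdeal.isMaximal R).eq_of_le (Ideal.comap_ne_top _ hpp.ne_top)
    rw [← hs, Ideal.span_le]
    intro x hx
    rw [SetLike.mem_coe, Ideal.mem_comap]
    have hq : f x / f x₀ ∈ S₀ := Algebra.subset_adjoin (by
      simp only [Finset.coe_image, Set.mem_image, Finset.mem_coe]
      exact ⟨x, hx, rfl⟩)
    have : algebraMap R S₀ x = (⟨f x / f x₀, hq⟩ : S₀) * t := by
      apply Subtype.ext
      show f x = f x / f x₀ * f x₀
      rw [div_mul_cancel₀ _ hfx₀]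
    rw [this]
    exact p.mul_mem_left _ htp
  -- the localization
  let L := Localization.AtPrime p
  have hdim : ringKrullDim L = 1 := by
    rw [IsLocalization.AtPrime.ringKrullDim_eq_height p L, hheight]
    rfl
  haveI : Algebra.EssFiniteType S₀ L := Algebra.EssFiniteType.of_isLocalization L p.primeCompl
  haveI : Algebra.EssFiniteType R L := Algebra.EssFiniteType.comp R S₀ L
  haveI : IsLocalHom (algebraMap R L) := by
    apply ((IsLocalRing.local_hom_TFAE (algebraMap R L)).out 0 4).mpr
    have h4 : (maximalIdeal L).comap (algebraMap S₀ L) = p :=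
      IsLocalization.AtPrime.under_maximalIdeal L p
    rw [IsScalarTower.algebraMap_eq R S₀ L, ← Ideal.comap_comap, h4, hcomap]
  have hunits : ∀ y : p.primeCompl, IsUnit (S₀.val (y : S₀)) := by
    intro y
    apply IsUnit.mk0
    intro h
    apply y.2
    have : (y : S₀) = 0 := Subtype.ext h
    rw [this]
    exact p.zero_mem
  let ι : L →ₐ[R] K := IsLocalization.liftAlgHom (M := p.primeCompl) (f := S₀.val) hunits
  have hι : Function.Injective ι := by
    have : (ι : L → K) = (IsLocalization.lift (M := p.primeCompl) (g := (S₀.val : S₀ →+* K)) hunits : L → K) := rfl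
    rw [this, IsLocalization.lift_injective_iff]
    intro a b
    constructor
    · intro h
      have : a = b := IsLocalization.injective L (le_nonZeroDivisors_of_noZeroDivisors
        (fun h0 => (Ideal.mem_primeCompl_iff.mp h0) p.zero_mem)) h
      rw [this]
    · intro h
      have : a = b := Subtype.ext h
      rw [this]
  exact exists_subalgebra_of_injective (R := R) (K := FractionRing R) (L := L) hdim ι hι

end Groth.Agent.H5.Dom1
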